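import Cfsg.Agent.SP.Mon.L3.Iface
import Cfsg.Agent.H658.TwoB.TwentyThree
import Cfsg.Agent.H451.Weak.MCo
import Cfsg.Agent.H305.SprCo1
import Cfsg.Agent.S0399

/-! # S5755, the Monster: subgroups of `C(zz)` which map onto `Co1` -/

set_option autoImplicit false
set_option maxRecDepth 100000
set_option linter.style.haveILetI false

namespace Cfsg.Agent.SP.Mon.Cert

open Subgroup Cfsg
open Cfsg.Agent.MonsterX Cfsg.Agent.MonsterU.Lam2
open Cfsg.Agent.BpSpor.MBigModel (MG zz pi chart)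
open Cfsg.Agent.H995.CopEngine (AllKnown)
open Cfsg.Agent.SporadicStructure.Co0Matrix Cfsg.Agent.CoOneType.CoEval
open Cfsg.Spor (Co1)

section Pairs
variable {T : Type*} [Group T]

/-- Two-point stabilisers of order at most two. -/
theorem small {A B N : Subgroup T} (h : IsPair A B) (hA : A ≤ N) {s z : T} (hz : z * z = 1)
    (hs : ∀ x ∈ N, s⁻¹ * x * s ∈ N → x = 1 ∨ x = z) :
    (∀ n ∈ N, n * z * n⁻¹ ∈ A ∧ n * z * n⁻¹ ∉ B) ∧ ∀ a ∈ A, ∀ a' ∈ A, a ∉ B → a' ∉ B → a * a' ∈ B := by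
  have h1 : ∀ n ∈ N, n * z * n⁻¹ ∈ A ∧ n * z * n⁻¹ ∉ B := by
    intro n hn
    obtain ⟨x, hx, hxt, hxB⟩ := h.exists_not_mem (n * s)
    rcases hs (n⁻¹ * x * n) (N.mul_mem (N.mul_mem (N.inv_mem hn) (hA hx)) hn)
      (by rw [show s⁻¹ * (n⁻¹ * x * n) * s = (n * s)⁻¹ * x * (n * s) by group]; exact hA hxt) with e | e
    · exact absurd (by rw [show x = n * (n⁻¹ * x * n) * n⁻¹ by group, e]; simp) hxB
    · rw [← e, show n * (n⁻¹ * x * n) * n⁻¹ = x by group]
      exact ⟨hx, hxB⟩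
  refine ⟨h1, fun a ha a' ha' hB hB' => ?_⟩
  have hzA : z ∈ A := by simpa using (h1 1 N.one_mem).1
  have h2 : ∀ a ∈ A, a ∉ B → ∃ b ∈ B, a = b * z := by
    intro a ha hB
    obtain ⟨b, hb, d, hd, hdt, rfl⟩ := h.exists_mul s ha
    rcases hs d (hA hd) (hA hdt) with rfl | rfl
    · exact absurd (by simpa using hb) hB
    · exact ⟨b, hb, rfl⟩
  obtain ⟨b, hb, rfl⟩ := h2 a ha hB
  obtain ⟨b', hb', rfl⟩ := h2 a' ha' hB'
  rw [show b * z * (b' * z) = b * (z * b' * z⁻¹) * (z * z) by group, hz, mul_one]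
  exact B.mul_mem hb (h.conj_mem hzA hb')

/-- The element outside `B` can be moved into the kernel of a map onto a simple group. -/
theorem kernel {A B N C : Subgroup T} (hBA : B ≤ A) (hC : C ≤ N) {z : T} (hzC : z ∈ C)
    (h1 : ∀ n ∈ N, n * z * n⁻¹ ∈ A ∧ n * z * n⁻¹ ∉ B) (h2 : ∀ a ∈ A, ∀ a' ∈ A, a ∉ B → a' ∉ B → a * a' ∈ B)
    {S : Type*} [Group S] [IsSimpleGroup S] (hS : ¬ ∀ a b : S, a * b = b * a) (π : C →* S)
    (hπ : Function.Surjective π) (hz : π ⟨z, hzC⟩ ≠ 1) :
    ∃ k : C, π k = 1 ∧ ∀ n ∈ N, n * k * n⁻¹ ∈ A ∧ n * k * n⁻¹ ∉ B := by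
  let L : Subgroup C :=
    { carrier := {c | ∀ n ∈ N, n * c * n⁻¹ ∈ B}
      one_mem' := fun n _ => by simp
      mul_mem' := fun {a b} ha hb n hn => by
        rw [show n * ((a * b : C) : T) * n⁻¹ = n * a * n⁻¹ * (n * b * n⁻¹) by push_cast; group]
        exact B.mul_mem (ha n hn) (hb n hn)
      inv_mem' := fun {a} ha n hn => by
        rw [show n * ((a⁻¹ : C) : T) * n⁻¹ = (n * a * n⁻¹)⁻¹ by push_cast; group]
        exact B.inv_mem (ha n hn) }
  have hL : L.Normal := ⟨fun a ha c n hn => by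
    rw [show n * ((c * a * c⁻¹ : C) : T) * n⁻¹ = (n * c) * a * (n * c)⁻¹ by push_cast; group]
    exact ha _ (N.mul_mem hn (hC c.2))⟩
  have hm : ∀ c : C, (⟨z, hzC⟩ * (c * ⟨z, hzC⟩ * c⁻¹) : C) ∈ L := fun c n hn => by
    rw [show n * ((⟨z, hzC⟩ * (c * ⟨z, hzC⟩ * c⁻¹) : C) : T) * n⁻¹ =
      n * z * n⁻¹ * ((n * c) * z * (n * c)⁻¹) by push_cast; group]
    have h3 := h1 _ (N.mul_mem hn (hC c.2))
    exact h2 _ (h1 n hn).1 _ h3.1 (h1 n hn).2 h3.2
  rcases (hL.map π hπ).eq_bot_or_eq_top with h3 | h3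
  · exfalso
    have h4 : ∀ c : C, π ⟨z, hzC⟩ * (π c * π ⟨z, hzC⟩ * (π c)⁻¹) = 1 := fun c => by
      have := mem_map_of_mem π (hm c)
      rw [h3, mem_bot] at this
      simpa using this
    have h5 : π ⟨z, hzC⟩ ∈ center S := mem_center_iff.2 fun y => by
      obtain ⟨c, rfl⟩ := hπ y
      have h6 := (h4 c).trans (h4 1).symm
      rw [map_one, one_mul, inv_one, mul_one] at h6
      exact mul_inv_eq_iff_eq_mul.1 (mul_left_cancel h6)
    rcases (inferInstance : (center S).Normal).eq_bot_or_eq_top with h6 | h6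
    · exact hz (mem_bot.1 (h6 ▸ h5))
    · exact hS fun a b => mem_center_iff.1 (h6 ▸ mem_top b) a
  · obtain ⟨l, hl, e⟩ : π ⟨z, hzC⟩ ∈ L.map π := h3 ▸ mem_top _
    refine ⟨l⁻¹ * ⟨z, hzC⟩, by rw [map_mul, map_inv, e, inv_mul_cancel], fun n hn => ?_⟩
    rw [show n * ((l⁻¹ * ⟨z, hzC⟩ : C) : T) * n⁻¹ = (n * l * n⁻¹)⁻¹ * (n * z * n⁻¹) by push_cast; group]
    exact ⟨A.mul_mem (A.inv_mem (hBA (hl n hn))) (h1 n hn).1,
      fun h4 => (h1 n hn).2 ((B.mul_mem_cancel_left (B.inv_mem (hl n hn))).1 h4)⟩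

end Pairs

section Words
variable {G : Type*} [Group G]

/-- the value of a word -/
def evw (f : ℕ → G) (w : List ℕ) : G := (w.map f).prod

/-- the power of a word -/
def pw (w : List ℕ) (n : ℕ) : List ℕ := (List.replicate n w).flatten

theorem evw_nil (f : ℕ → G) : evw f [] = 1 := rfl

theorem evw_cons (f : ℕ → G) (i : ℕ) (w : List ℕ) : evw f (i :: w) = f i * evw f w := rfl

theorem evw_append (f : ℕ → G) (v w : List ℕ) : evw f (v ++ w) = evw f v * evw f w := by
  show ((v ++ w).map f).prod = _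
  rw [List.map_append, List.prod_append]
  rfl

theorem evw_pw (f : ℕ → G) (w : List ℕ) (n : ℕ) : evw f (pw w n) = evw f w ^ n := by
  induction n with
  | zero => exact (pow_zero _).symm
  | succ n ih =>
    show evw f (w ++ pw w n) = _
    rw [evw_append, ih, pow_succ']

theorem evw_flatMap (f : ℕ → G) (σ : ℕ → List ℕ) (w : List ℕ) :
    evw f (w.flatMap σ) = evw (fun i => evw f (σ i)) w := by
  induction w with
  | nil => rfl
  | cons i w ih => rw [List.flatMap_cons, evw_append, ih, evw_cons]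

theorem evw_conj {f : ℕ → G} {k : G} {σ : ℕ → ℕ} {w : List ℕ} (h : ∀ i ∈ w, k * f i * k⁻¹ = f (σ i)) :
    k * evw f w * k⁻¹ = evw f (w.map σ) := by
  induction w with
  | nil => simp [evw_nil]
  | cons i w ih =>
    rw [List.map_cons, evw_cons, evw_cons, ← ih fun j hj => h j (List.mem_cons_of_mem _ hj),
      ← h i List.mem_cons_self]
    group

theorem evw_mem {f : ℕ → G} {K : Subgroup G} (h : ∀ i, f i ∈ K) (w : List ℕ) : evw f w ∈ K := by
  induction w with
  | nil => exact K.one_mem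
  | cons i w ih => exact K.mul_mem (h i) ih

end Words

section CoOne
variable {e : ℕ → Co0} {M : ℕ → List (List ℤ)}

/-- the letters: words in the matrices -/
def lt (e : ℕ → Co0) (a : ℕ → List ℕ) (i : ℕ) : Co1 := evw (fun j => pr (e j)) (a i)

/-- the check of `w ^ n = 1` (`b = true`) or `w ^ n ≠ 1` -/
def chk (M : ℕ → List (List ℤ)) (a : ℕ → List ℕ) (w : List ℕ) (n : ℕ) (b : Bool) : Bool :=
  cond b (relB M (pw (w.flatMap a) n)) (neB M (pw (w.flatMap a) n))

theorem chk_spec (hM : ∀ i, Rep (e i) (M i)) {a : ℕ → List ℕ} {w : List ℕ} {n : ℕ} {b : Bool}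
    (h : chk M a w n b = true) : evw (lt e a) w ^ n = 1 ↔ b = true := by
  have h1 : evw (fun j => pr (e j)) (pw (w.flatMap a) n) = evw (lt e a) w ^ n := by
    rw [evw_pw, evw_flatMap]
    rfl
  rw [← h1]
  cases b
  · exact ⟨fun h2 => absurd h2 (ne_one_of_neB hM h), fun h2 => absurd h2 (by decide)⟩
  · exact ⟨fun _ => rfl, fun _ => eq_one_of_relB hM h⟩

theorem order_of_chk (hM : ∀ i, Rep (e i) (M i)) {a : ℕ → List ℕ} {w : List ℕ} {p k : ℕ} (hp : p.Prime)
    (h1 : chk M a w (k * p) true = true) (h2 : chk M a w k false = true) : orderOf (evw (lt e a) w ^ k) = p := by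
  haveI := Fact.mk hp
  refine orderOf_eq_prime ?_ fun h => absurd ((chk_spec hM h2).1 h) (by decide)
  rw [← pow_mul]
  exact (chk_spec hM h1).2 rfl

theorem gen_of_chk (hK : AllKnown.{0}) (hM : ∀ i, Rep (e i) (M i)) {a : ℕ → List ℕ} {w w' : List ℕ} {k : ℕ}
    (h1 : chk M a w (k * 13) true = true) (h2 : chk M a w k false = true)
    (h3 : chk M a w' (1 * 23) true = true) (h4 : chk M a w' 1 false = true) :
    closure (Set.range (lt e a)) = ⊤ := by
  have hm : ∀ i, lt e a i ∈ closure (Set.range (lt e a)) := fun i => subset_closure ⟨i, rfl⟩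
  exact H305.SprCo1.top_of hK (pow_mem (evw_mem hm w) k) (pow_mem (evw_mem hm w') 1)
    (order_of_chk hM (by norm_num) h1 h2).symm.dvd (order_of_chk hM (by norm_num) h3 h4)

/-- a substitution which changes the order of a word is not induced by a conjugation -/
theorem excl (hM : ∀ i, Rep (e i) (M i)) {a : ℕ → List ℕ} {w : List ℕ} {n : ℕ} {σ : ℕ → ℕ} {b b' : Bool}
    (h1 : chk M a w n b = true) (h2 : chk M a (w.map σ) n b' = true) {k : Co1}
    (hk : ∀ i ∈ w, k * lt e a i * k⁻¹ = lt e a (σ i)) : b = b' := by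
  have h3 := chk_spec hM h1
  have h4 := chk_spec hM h2
  rw [← evw_conj hk, conj_pow, mul_inv_eq_one, mul_eq_left, h3] at h4
  exact Bool.eq_iff_iff.2 h4

end CoOne

theorem exists_y : ∃ (y : Co1) (x v : L2), orderOf y = 23 ∧ y • x = x ∧ y • v = v ∧ qf x = 1 ∧ bf v x = 1 := by
  let l4 : leechLattice := ⟨vec (twoL 23 8 8), vec_mem_of_leechB (by decide +kernel)⟩
  have h4 : IsType 4 (cl l4) := ⟨l4, by
    show sqNorm (vec (twoL 23 8 8)) = _
    rw [sqNorm_eq_dot, dotInt_vec _ _ (by decide)]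
    decide +kernel, rfl⟩
  let l2 : leechLattice := ⟨vec ((List.range 24).map fun j => if j = 23 then -3 else 1),
    vec_mem_of_leechB (by decide +kernel)⟩
  have h2 : IsType 2 (cl l2) := ⟨l2, by
    show sqNorm (vec ((List.range 24).map fun j => if j = 23 then -3 else 1)) = _
    rw [sqNorm_eq_dot, dotInt_vec _ _ (by decide)]
    decide +kernel, rfl⟩
  have hb : bf (cl l4) (cl l2) = 1 := by
    rw [bf_cl]
    show ((dotInt (vec (twoL 23 8 8)) (vec ((List.range 24).map fun j => if j = 23 then -3 else 1)) / 8 : ℤ) :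
      ZMod 2) = 1
    rw [dotInt_vec _ _ (by decide)]
    decide +kernel
  obtain ⟨y, hy, h5, h6⟩ := H658.TwoB.exists_23 h4 h2 hb
  refine ⟨y, cl l4 + cl l2, cl l2, hy, by rw [smul_add, h5, h6], h6, ?_, ?_⟩
  · rw [qf_add, hb, MonsterU.Ch.qf_of_type h4, MonsterU.Ch.qf_of_type h2]
    decide
  · rw [bf_add_right, bf_self, bf_comm, hb, add_zero]

theorem central_co1 {k : Co1} (hk : ∀ s, k * s = s * k) : k = 1 := by
  haveI : IsSimpleGroup Co1 := Cfsg.Agent.S0399.result.1
  obtain ⟨y, -, -, hy, -⟩ := exists_y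
  rcases (inferInstance : (center Co1).Normal).eq_bot_or_eq_top with h | h
  · exact mem_bot.1 (h ▸ mem_center_iff.2 fun s => (hk s).symm)
  · have h1 := H451.Weak.MCo.card_cent hy
    have h2 : centralizer ({y} : Set Co1) = ⊤ := eq_top_iff.2 fun s _ =>
      mem_centralizer_singleton_iff.2 (mem_center_iff.1 (h ▸ mem_top y) s)
    rw [h2, card_top, BpSpor.MBigCo.card_co1] at h1
    norm_num at h1

theorem fixed_co1 {v : L2} (hv : ∀ s : Co1, s • v = v) : v = 0 := by
  let U : AddSubgroup L2 :=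
    { carrier := {v | ∀ s : Co1, s • v = v}
      zero_mem' := fun s => smul_zero s
      add_mem' := fun {a b} ha hb s => by rw [smul_add, ha s, hb s]
      neg_mem' := fun {a} ha s => by rw [smul_neg, ha s] }
  rcases irreducible U (fun g x hx => by rw [show g • x = x from hx (QuotientGroup.mk g)]; exact hx) with h | h
  · exact AddSubgroup.mem_bot.1 (h ▸ hv)
  · obtain ⟨y, -, -, hy, -⟩ := exists_y
    have h1 : y = 1 := eq_of_smul fun x => by
      rw [one_smul]
      exact (h ▸ AddSubgroup.mem_top x : x ∈ U) y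
    rw [h1, orderOf_one] at hy
    norm_num at hy

section Chart
variable {T : Type*} [Group T] {Q : Subgroup T} {z : T} {eta : T → L2} {π : centralizer ({z} : Set T) →* Co1}

theorem cent_in (ch : MonsterU.Ch.Chart Q z eta π) {G : Subgroup (centralizer ({z} : Set T))}
    (hG : ∀ s : Co1, ∃ g ∈ G, π g = s) {h : T} (hz : h * z = z * h) (hh : ∀ g ∈ G, h * g = g * h) :
    h = 1 ∨ h = z := by
  let h' : centralizer ({z} : Set T) := ⟨h, mem_centralizer_singleton_iff.2 hz⟩
  have h1 : π h' = 1 := central_co1 fun s => by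
    obtain ⟨g, hg, rfl⟩ := hG s
    rw [← map_mul, ← map_mul]
    exact congrArg π (Subtype.ext (hh g hg))
  have hQ : h ∈ Q := (ch.pi_eq_one h').1 h1
  refine (ch.eta_zero h hQ).1 (fixed_co1 fun s => ?_)
  obtain ⟨g, hg, rfl⟩ := hG s
  rw [← ch.eta_conj g h hQ, ← hh g hg, mul_inv_cancel_right]

theorem comm_of_fix (ch : MonsterU.Ch.Chart Q z eta π) {u : centralizer ({z} : Set T)} (hu : (u : T) ^ 23 = 1)
    {q : T} (hq : q ∈ Q) (h : π u • eta q = eta q) : q * u = u * q := by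
  have hz := mem_centralizer_singleton_iff.1 u.2
  rw [← ch.eta_conj u q hq] at h
  rcases (ch.eta_eq (ch.large.conj_mem _ hz q hq) hq).1 h with h1 | h1
  · exact (mul_inv_eq_iff_eq_mul.1 h1).symm
  · have h2 : Commute q ((u : T) ^ 2) := by
      have h3 : (u : T) * q = q * z * u := mul_inv_eq_iff_eq_mul.1 h1
      show q * (u : T) ^ 2 = (u : T) ^ 2 * q
      calc q * (u : T) ^ 2 = q * (z * z) * u * u := by rw [ch.large.z_sq, mul_one, pow_two, mul_assoc]
        _ = q * z * (u * z) * u := by rw [hz]; simp only [mul_assoc]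
        _ = (q * z * u) * z * u := by simp only [mul_assoc]
        _ = u * (q * z * u) := by rw [← h3, mul_assoc, mul_assoc, h3]; simp only [mul_assoc]
        _ = (u : T) ^ 2 * q := by rw [← h3, pow_two, mul_assoc]
    have h3 := h2.pow_right 12
    rw [← pow_mul, show 2 * 12 = 23 + 1 from rfl, pow_succ, hu, one_mul] at h3
    exact h3

theorem pow_four (ch : MonsterU.Ch.Chart Q z eta π) {q : T} (hq : q ∈ Q) : q ^ 4 = 1 := by
  rw [show 4 = 2 + 2 from rfl, pow_add, pow_two]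
  rcases ch.large.sq q hq with h | h
  · rw [h, one_mul]
  · rw [h, ch.large.z_sq]

/-- the conjugates of `z` under the centralizer of an element of order 23 commute -/
theorem core [Finite T] (ch : MonsterU.Ch.Chart Q z eta π) {u a c : T} (hu : orderOf u = 23)
    (h552 : Nat.card (centralizer ({u} : Set T)) = 552) (huz : u * z = z * u)
    (ha : a ∈ Q) (hc : c ∈ Q) (hau : a * u = u * a) (hcu : c * u = u * c)
    (haa : a * a = z) (hac : c * a ≠ a * c) {h : T} (hh : h * u = u * h) :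
    h⁻¹ * z * h * z = z * (h⁻¹ * z * h) := by
  haveI : Fact (Nat.Prime 2) := ⟨Nat.prime_two⟩
  set C := centralizer ({u} : Set T) with hC
  let D : Subgroup T := C ⊓ centralizer ({z} : Set T)
  let P : Subgroup T := C ⊓ Q
  have hPD : P ≤ D := fun x hx => ⟨hx.1, mem_centralizer_singleton_iff.2 (ch.large.comm_z x hx.2)⟩
  have hP : IsPGroup 2 P := fun x => ⟨2, Subtype.ext (pow_four ch x.2.2)⟩
  obtain ⟨k, hk⟩ := IsPGroup.iff_card.1 hP
  have haP : a ∈ P := ⟨mem_centralizer_singleton_iff.2 hau, ha⟩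
  have hcP : c ∈ P := ⟨mem_centralizer_singleton_iff.2 hcu, hc⟩
  have hoa : orderOf a = 2 ^ (1 + 1) := orderOf_eq_prime_pow
    (by rw [pow_one, pow_two, haa]; exact ch.large.z_ne) (pow_four ch ha)
  have h8 : 8 ∣ Nat.card P := by
    have h1 : Nat.card (zpowers a) < Nat.card P := by
      by_contra h2
      have h3 : zpowers a = P := eq_of_le_of_card_ge (zpowers_le.2 haP) (not_lt.1 h2)
      obtain ⟨i, rfl⟩ : c ∈ zpowers a := h3 ▸ hcP
      exact hac ((Commute.refl a).zpow_left i).eq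
    rw [Nat.card_zpowers, hoa, hk] at h1
    rw [hk]
    exact pow_dvd_pow 2 (show 3 ≤ k from (Nat.pow_lt_pow_iff_right (by norm_num)).1 h1)
  have h23 : 23 ∣ Nat.card D := by
    rw [← hu, ← Nat.card_zpowers]
    exact card_dvd_of_le (zpowers_le.2 ⟨mem_centralizer_singleton_iff.2 rfl, mem_centralizer_singleton_iff.2 huz⟩)
  have h184 : 8 * 23 ∣ Nat.card D := Nat.Coprime.mul_dvd_of_dvd_of_dvd (by norm_num)
    (h8.trans (card_dvd_of_le hPD)) h23
  let D' : Subgroup C := D.subgroupOf C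
  have hi : D'.index ∣ 3 := by
    have h1 := D'.card_mul_index
    rw [h552, Nat.card_congr (subgroupOfEquivOfLe (inf_le_left : D ≤ C)).toEquiv] at h1
    obtain ⟨m, hm⟩ := h184
    rw [hm] at h1
    exact ⟨m, by
      have : 184 * 3 = 184 * (D'.index * m) := by linarith
      exact Nat.eq_of_mul_eq_mul_left (by norm_num) this⟩
  let φ := MulAction.toPermHom C (C ⧸ D')
  have h6 : φ ⟨a, haP.1⟩ ^ 6 = 1 := by
    refine orderOf_dvd_iff_pow_eq_one.1 ((_root_.orderOf_dvd_natCard _).trans ?_)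
    rw [Nat.card_perm, ← index_eq_card]
    rcases (Nat.dvd_prime Nat.prime_three).1 hi with h1 | h1 <;> rw [h1] <;> decide
  have hzC : z ∈ C := mem_centralizer_singleton_iff.2 huz.symm
  have h7 : (⟨a, haP.1⟩ : C) ^ 6 = ⟨z, hzC⟩ := Subtype.ext (by
    show a ^ 6 = z
    rw [show 6 = 4 + 2 from rfl, pow_add, pow_four ch ha, one_mul, pow_two, haa])
  rw [← map_pow, h7] at h6
  have h9 : ((⟨z, hzC⟩ * ⟨h, mem_centralizer_singleton_iff.2 hh⟩ : C) : C ⧸ D') =
      ((⟨h, mem_centralizer_singleton_iff.2 hh⟩ : C) : C ⧸ D') :=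
    congrArg (fun f : Equiv.Perm (C ⧸ D') => f ((⟨h, mem_centralizer_singleton_iff.2 hh⟩ : C) : C ⧸ D')) h6
  have h10 : h⁻¹ * (z * h) ∈ D := mem_subgroupOf.1 (QuotientGroup.eq.1 h9.symm)
  rw [mul_assoc h⁻¹]
  exact mem_centralizer_singleton_iff.1 h10.2

/-- **The centralizer of a subgroup of `C(z)` which maps onto `Co1`.** -/
theorem cent [Finite T] (ch : MonsterU.Ch.Chart Q z eta π)
    (h552 : ∀ u : T, orderOf u = 23 → Nat.card (centralizer ({u} : Set T)) = 552)
    {G : Subgroup (centralizer ({z} : Set T))} (hG : ∀ s : Co1, ∃ g ∈ G, π g = s)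
    {h : T} (hh : ∀ g ∈ G, h * g = g * h) : h = 1 ∨ h = z := by
  haveI : Fact (Nat.Prime 23) := ⟨by norm_num⟩
  obtain ⟨y, x, v, hy, hx, hv, hq, hb⟩ := exists_y
  obtain ⟨g, hg, rfl⟩ := hG y
  have h23 : π g ^ 23 = 1 := by rw [← hy, pow_orderOf_eq_one]
  have h1 : (g : T) ^ 23 ∈ Q := (ch.pi_eq_one (g ^ 23)).1 (by rw [map_pow, h23])
  have h2 : π (g ^ 24) = π g := by rw [map_pow, pow_succ, h23, one_mul]
  have h3 : ((g ^ 24 : centralizer ({z} : Set T)) : T) ^ 23 = 1 := by
    rw [Subgroup.coe_pow, ← pow_mul, show 24 * 23 = 23 * 4 * 6 from rfl, pow_mul, pow_mul, pow_four ch h1, one_pow]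
  have h4 : orderOf ((g ^ 24 : centralizer ({z} : Set T)) : T) = 23 := orderOf_eq_prime h3 fun h5 => by
    rw [show g ^ 24 = 1 from Subtype.ext h5, map_one] at h2
    rw [← h2, orderOf_one] at hy
    norm_num at hy
  obtain ⟨a, ha, rfl⟩ := ch.eta_surj x
  obtain ⟨c, hc, rfl⟩ := ch.eta_surj v
  have h5 := core ch h4 (h552 _ h4) (mem_centralizer_singleton_iff.1 (g ^ 24).2) ha hc
    (comm_of_fix ch h3 ha (by rw [h2, hx])) (comm_of_fix ch h3 hc (by rw [h2, hv])) ((ch.sq_z ha).2 hq)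
    (fun h6 => by
      rw [(ch.comm_iff hc ha).1 h6] at hb
      exact absurd hb (by decide)) (hh _ (G.pow_mem hg 24))
  rcases cent_in ch hG h5 (fun k hk => by
    have h6 := hh k hk
    have h7 := mem_centralizer_singleton_iff.1 k.2
    calc h⁻¹ * z * h * k = h⁻¹ * (z * k) * h := by rw [mul_assoc _ h, h6]; group
      _ = h⁻¹ * (k * h) * (h⁻¹ * z * h) := by rw [← h7]; group
      _ = k * (h⁻¹ * z * h) := by rw [← h6]; group) with h6 | h6
  · exact absurd (by rw [show z = h * (h⁻¹ * z * h) * h⁻¹ by group, h6]; group) ch.large.z_ne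
  · refine cent_in ch hG ?_ hh
    calc h * z = h * (h⁻¹ * z * h) := by rw [h6]
      _ = z * h := by group

variable {g : ℕ → centralizer ({z} : Set T)}

theorem fam_cent [Finite T] (ch : MonsterU.Ch.Chart Q z eta π)
    (h552 : ∀ u : T, orderOf u = 23 → Nat.card (centralizer ({u} : Set T)) = 552)
    (hg : closure (Set.range fun i => π (g i)) = ⊤) {h : T} (hh : ∀ i, h * g i = g i * h) : h = 1 ∨ h = z := by
  refine cent ch h552 (G := closure (Set.range g)) (fun s => ?_) fun k hk => ?_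
  · have : s ∈ (closure (Set.range g)).map π := by
      rw [MonoidHom.map_closure, ← Set.range_comp]
      exact hg ▸ mem_top s
    exact this
  · have : closure (Set.range g) ≤ (centralizer ({h} : Set T)).comap (Subgroup.subtype _) :=
      (closure_le _).2 (by
        rintro _ ⟨i, rfl⟩
        exact mem_centralizer_singleton_iff.2 (hh i).symm)
    exact (mem_centralizer_singleton_iff.1 (this hk)).symm

theorem fam_norm [Finite T] (ch : MonsterU.Ch.Chart Q z eta π)
    (h552 : ∀ u : T, orderOf u = 23 → Nat.card (centralizer ({u} : Set T)) = 552)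
    (hg : closure (Set.range fun i => π (g i)) = ⊤) {h : T} {σ : ℕ → ℕ}
    (hh : ∀ i, h * g i * h⁻¹ = g (σ i)) : ∃ k : Co1, ∀ i, k * π (g i) * k⁻¹ = π (g (σ i)) := by
  have h1 : h * z = z * h := by
    rcases fam_cent ch h552 hg (h := h⁻¹ * z * h) (fun i => by
      have h7 := mem_centralizer_singleton_iff.1 (g (σ i)).2
      calc h⁻¹ * z * h * g i = h⁻¹ * (z * (h * g i * h⁻¹)) * h := by group
        _ = h⁻¹ * ((h * g i * h⁻¹) * z) * h := by rw [hh, h7]
        _ = g i * (h⁻¹ * z * h) := by group) with h6 | h6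
    · exact absurd (by rw [show z = h * (h⁻¹ * z * h) * h⁻¹ by group, h6]; group) ch.large.z_ne
    · calc h * z = h * (h⁻¹ * z * h) := by rw [h6]
        _ = z * h := by group
  refine ⟨π ⟨h, mem_centralizer_singleton_iff.2 h1⟩, fun i => ?_⟩
  rw [← map_inv, ← map_mul, ← map_mul]
  exact congrArg π (Subtype.ext (hh i))

end Chart

theorem c552 (hK : AllKnown.{0}) (u : MG) (hu : orderOf u = 23) : Nat.card (centralizer ({u} : Set MG)) = 552 := by
  have := NL.cent_exact hK (by norm_num) (by norm_num) hu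
  generalize Nat.card (centralizer ({u} : Set MG)) = n at this
  simpa using this

end Cfsg.Agent.SP.Mon.Cert
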