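import Cfsg.Agent.SP.Mon.Cert.Gen
import Cfsg.Agent.LThreeMB.CTwelveFix

/-! # S5755, the Monster: box `N3A`

Two conjugates of an element of class `3A` generate `C(zz)` modulo `Q`; the intersection of the normalisers is `⟨zz⟩`. -/

set_option autoImplicit false
set_option maxRecDepth 100000
set_option linter.style.haveILetI false

namespace Cfsg.Agent.SP.Mon.Cert.N3A

open Subgroup Cfsg
open Cfsg.Agent.MonsterU.Lam2 Cfsg.Agent.LThreeMB Cfsg.Agent.LThreeMB.CTwelveFix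
open Cfsg.Agent.BpSpor.MBigModel (MG zz chart)
open Cfsg.Agent.H995.CopEngine (AllKnown)
open Cfsg.Agent.SporadicStructure.Co0Matrix Cfsg.Agent.CoOneType.CoEval
open Cfsg.Spor (Co1)

/-- rows -/
def rS : List (List ℤ) := [
  [0, -2, 0, 0, 2, -2, 0, 0, 2, 2, 2, 0, -2, 0, 0, 2, -2, -2, -4, 0, 2, 0, 0, 2],
  [-2, 0, 2, -2, 0, 0, -2, -2, 0, 0, 0, -2, -4, 2, -2, 0, 0, 0, 2, 2, 0, 2, -2, 0],
  [-2, 0, -2, 2, 0, 0, -2, 2, 0, 0, 0, -2, 0, 2, 2, 0, 0, 0, -2, 2, 0, -2, -2, -4],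
  [0, -2, 0, 4, -2, 2, 0, 0, -2, -2, 2, 0, -2, 0, 0, -2, 2, -2, 0, 0, 2, 0, 0, 2],
  [2, 0, 2, 2, 0, 0, 2, 2, 0, 4, 0, -2, 0, -2, -2, 0, 0, 0, 2, 2, 0, -2, -2, 0],
  [4, -2, 0, 0, 2, 2, 0, 0, -2, -2, -2, 0, -2, 0, 0, 2, -2, 2, 0, 0, 2, 0, 0, -2],
  [0, 2, -4, 0, 2, 2, 0, 0, -2, 2, 2, 0, -2, 0, 0, -2, -2, 2, 0, 0, -2, 0, 0, 2],
  [0, -2, 0, 0, -2, 2, 0, 0, 2, -2, 2, 0, 2, 0, 0, 2, -2, 2, 0, 0, -2, 0, -4, 2],
  [-2, 0, -2, 2, 0, 0, 2, -2, 0, 0, -4, 2, 0, -2, -2, 0, 0, 0, -2, 2, 0, 2, -2, 0],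
  [0, -2, 0, 0, -2, -2, 0, 0, -2, 2, 2, 0, 2, 0, 0, -2, -2, 2, 0, 0, 2, 4, 0, -2],
  [0, -2, 0, 0, 2, -2, 4, 0, 2, -2, 2, 0, -2, 0, 0, -2, 2, 2, 0, 0, -2, 0, 0, -2],
  [0, -2, 0, 0, -2, -2, 0, 0, -2, 2, -2, 0, -2, 0, 4, 2, 2, 2, 0, 0, -2, 0, 0, 2],
  [2, 0, -2, 2, 0, 0, -2, -2, 4, 0, 0, -2, 0, -2, 2, 0, 0, 0, 2, 2, 0, 2, 2, 0],
  [0, -2, 0, 0, 2, -2, 0, 0, -2, -2, -2, -4, 2, 0, 0, -2, -2, -2, 0, 0, -2, 0, 0, 2],
  [-2, 0, 2, 2, 4, 0, -2, 2, 0, 0, 0, 2, 0, -2, 2, 0, 0, 0, 2, -2, 0, 2, -2, 0],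
  [-2, -4, -2, -2, 0, 0, -2, 2, 0, 0, 0, 2, 0, -2, -2, 0, 0, 0, 2, 2, 0, -2, 2, 0],
  [2, 0, -2, -2, 0, 0, 2, 2, 0, 0, 0, 2, 0, 2, 2, 0, 0, -4, 2, 2, 0, 2, -2, 0],
  [-2, 0, 2, -2, 0, 4, 2, 2, 0, 0, 0, -2, 0, -2, 2, 0, 0, 0, -2, 2, 0, 2, 2, 0],
  [0, -2, 0, 0, -2, 2, 0, 0, 2, 2, -2, 0, -2, 0, 0, -2, -2, -2, 0, -4, -2, 0, 0, -2],
  [-2, 0, -2, -2, 0, 0, 2, -2, 0, 0, 0, -2, 0, -2, 2, 0, 0, 0, 2, -2, 4, -2, -2, 0],
  [-2, 0, 2, 2, 0, 0, 2, -2, 0, 0, 0, 2, 0, 2, 2, 0, -4, 0, 2, 2, 0, -2, 2, 0],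
  [-2, 0, -2, 2, 0, 0, 2, 2, 0, 0, 0, -2, 0, 2, -2, 4, 0, 0, 2, -2, 0, 2, 2, 0],
  [0, 2, 0, 0, -2, -2, 0, 4, 2, -2, -2, 0, -2, 0, 0, -2, -2, 2, 0, 0, 2, 0, 0, 2],
  [0, 2, 0, 0, -2, -2, 0, 0, -2, -2, 2, 0, -2, -4, 0, 2, -2, -2, 0, 0, -2, 0, 0, -2]]

/-- columns -/
def cS : List (List ℤ) := [
  [0, -2, -2, 0, 2, 4, 0, 0, -2, 0, 0, 0, 2, 0, -2, -2, 2, -2, 0, -2, -2, -2, 0, 0],
  [-2, 0, 0, -2, 0, -2, 2, -2, 0, -2, -2, -2, 0, -2, 0, -4, 0, 0, -2, 0, 0, 0, 2, 2],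
  [0, 2, -2, 0, 2, 0, -4, 0, -2, 0, 0, 0, -2, 0, 2, -2, -2, 2, 0, -2, 2, -2, 0, 0],
  [0, -2, 2, 4, 2, 0, 0, 0, 2, 0, 0, 0, 2, 0, 2, -2, -2, -2, 0, -2, 2, 2, 0, 0],
  [2, 0, 0, -2, 0, 2, 2, -2, 0, -2, 2, -2, 0, 2, 4, 0, 0, 0, -2, 0, 0, 0, -2, -2],
  [-2, 0, 0, 2, 0, 2, 2, 2, 0, -2, -2, -2, 0, -2, 0, 0, 0, 4, 2, 0, 0, 0, -2, -2],
  [0, -2, -2, 0, 2, 0, 0, 0, 2, 0, 4, 0, -2, 0, -2, -2, 2, 2, 0, 2, 2, 2, 0, 0],
  [0, -2, 2, 0, 2, 0, 0, 0, -2, 0, 0, 0, -2, 0, 2, 2, 2, 2, 0, -2, -2, 2, 4, 0],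
  [2, 0, 0, -2, 0, -2, -2, 2, 0, -2, 2, -2, 4, -2, 0, 0, 0, 0, 2, 0, 0, 0, 2, -2],
  [2, 0, 0, -2, 4, -2, 2, -2, 0, 2, -2, 2, 0, -2, 0, 0, 0, 0, 2, 0, 0, 0, -2, -2],
  [2, 0, 0, 2, 0, -2, 2, 2, -4, 2, 2, -2, 0, -2, 0, 0, 0, 0, -2, 0, 0, 0, -2, 2],
  [0, -2, -2, 0, -2, 0, 0, 0, 2, 0, 0, 0, -2, -4, 2, 2, 2, -2, 0, -2, 2, -2, 0, 0],
  [-2, -4, 0, -2, 0, -2, -2, 2, 0, 2, -2, -2, 0, 2, 0, 0, 0, 0, -2, 0, 0, 0, -2, -2],
  [0, 2, 2, 0, -2, 0, 0, 0, -2, 0, 0, 0, -2, 0, -2, -2, 2, -2, 0, -2, 2, 2, 0, -4],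
  [0, -2, 2, 0, -2, 0, 0, 0, -2, 0, 0, 4, 2, 0, 2, -2, 2, 2, 0, 2, 2, -2, 0, 0],
  [2, 0, 0, -2, 0, 2, -2, 2, 0, -2, -2, 2, 0, -2, 0, 0, 0, 0, -2, 0, 0, 4, -2, 2],
  [-2, 0, 0, 2, 0, -2, -2, -2, 0, -2, 2, 2, 0, -2, 0, 0, 0, 0, -2, 0, -4, 0, -2, -2],
  [-2, 0, 0, -2, 0, 2, 2, 2, 0, 2, 2, 2, 0, -2, 0, 0, -4, 0, -2, 0, 0, 0, 2, -2],
  [-4, 2, -2, 0, 2, 0, 0, 0, -2, 0, 0, 0, 2, 0, 2, 2, 2, -2, 0, 2, 2, 2, 0, 0],
  [0, 2, 2, 0, 2, 0, 0, 0, 2, 0, 0, 0, 2, 0, -2, 2, 2, 2, -4, -2, 2, -2, 0, 0],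
  [2, 0, 0, 2, 0, 2, -2, -2, 0, 2, -2, -2, 0, -2, 0, 0, 0, 0, -2, 4, 0, 0, 2, -2],
  [0, 2, -2, 0, -2, 0, 0, 0, 2, 4, 0, 0, 2, 0, 2, -2, 2, 2, 0, -2, -2, 2, 0, 0],
  [0, -2, -2, 0, -2, 0, 0, -4, -2, 0, 0, 0, 2, 0, -2, 2, -2, 2, 0, -2, 2, 2, 0, 0],
  [2, 0, -4, 2, 0, -2, 2, 2, 0, -2, -2, 2, 0, 2, 0, 0, 0, 0, -2, 0, 0, 0, 2, -2]]

theorem okS : Ok rS cS := Ok.of_bool (by decide +kernel)

/-- the conjugating element -/
def sS : Co0 := SporadicStructure.Co0Matrix.mk okS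

/-- the elements -/
noncomputable def ee (i : ℕ) : Co0 := cond (Nat.beq i 0) g12 (cond (Nat.beq i 1) sS sS⁻¹)

/-- the matrices -/
def MM (i : ℕ) : List (List ℤ) := cond (Nat.beq i 0) rP (cond (Nat.beq i 1) rS cS)

theorem rep : ∀ i, Rep (ee i) (MM i)
  | 0 => repP
  | 1 => rep_mk okS
  | _ + 2 => rep_inv okS

/-- the letters -/
def aa (i : ℕ) : List ℕ := [[0], [0, 0], [1, 0, 2], [1, 0, 0, 2]].getD i []

theorem c1 : chk MM aa [0, 2] (1 * 13) true = true := by decide +kernel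
theorem c2 : chk MM aa [0, 2] 1 false = true := by decide +kernel
theorem c3 : chk MM aa [1, 2, 1, 2, 1, 2, 1, 3] (1 * 23) true = true := by decide +kernel
theorem c4 : chk MM aa [1, 2, 1, 2, 1, 2, 1, 3] 1 false = true := by decide +kernel
theorem c5 : chk MM aa [0, 3] (1 * 13) false = true := by decide +kernel
theorem c6 : chk MM aa [1, 2] (1 * 13) false = true := by decide +kernel
theorem c7 : chk MM aa [0, 2, 1, 2, 1, 3] 7 true = true := by decide +kernel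
theorem c8 : chk MM aa [1, 3, 0, 3, 0, 2] 7 false = true := by decide +kernel

theorem rigid (hK : AllKnown.{0}) {T : Type*} [Group T] [Finite T] {Q : Subgroup T} {z : T} {eta : T → L2}
    {π : centralizer ({z} : Set T) →* Co1} (ch : MonsterU.Ch.Chart Q z eta π)
    (h552 : ∀ u : T, orderOf u = 23 → Nat.card (centralizer ({u} : Set T)) = 552)
    {x s : centralizer ({z} : Set T)} (hx : (x : T) ^ 3 = 1) (hπ : π x = pr g12) (hs : π s = pr sS) {h : T}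
    (h1 : h * x * h⁻¹ = x ∨ h * x * h⁻¹ = (x : T) ^ 2)
    (h2 : ((s : T)⁻¹ * h * s) * x * ((s : T)⁻¹ * h * s)⁻¹ = x ∨
      ((s : T)⁻¹ * h * s) * x * ((s : T)⁻¹ * h * s)⁻¹ = (x : T) ^ 2) : h = 1 ∨ h = z := by
  let g : ℕ → centralizer ({z} : Set T) := fun i => [x, x ^ 2, s * x * s⁻¹, s * x ^ 2 * s⁻¹].getD i 1
  have e0 : pr (ee 0) = π x := hπ.symm
  have e1 : pr (ee 1) = π s := hs.symm
  have e2 : pr (ee 2) = (π s)⁻¹ := by rw [hs]; exact map_inv _ sS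
  have hg : ∀ i, π (g i) = lt ee aa i
    | 0 => by
      show π x = pr (ee 0) * 1
      rw [e0, mul_one]
    | 1 => by
      show π (x ^ 2) = pr (ee 0) * (pr (ee 0) * 1)
      rw [e0, mul_one, map_pow, pow_two]
    | 2 => by
      show π (s * x * s⁻¹) = pr (ee 1) * (pr (ee 0) * (pr (ee 2) * 1))
      rw [e0, e1, e2, mul_one, map_mul, map_mul, map_inv, mul_assoc]
    | 3 => by
      show π (s * x ^ 2 * s⁻¹) = pr (ee 1) * (pr (ee 0) * (pr (ee 0) * (pr (ee 2) * 1)))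
      rw [e0, e1, e2, mul_one, map_mul, map_mul, map_inv, map_pow, pow_two]
      simp only [mul_assoc]
    | _ + 4 => map_one π
  have hgen : closure (Set.range fun i => π (g i)) = ⊤ := by
    rw [funext hg]
    exact gen_of_chk hK rep c1 c2 c3 c4
  have sq : ∀ {k : T}, k * x * k⁻¹ = x → k * (x : T) ^ 2 * k⁻¹ = (x : T) ^ 2 := fun e => by rw [← conj_pow, e]
  have sq' : ∀ {k : T}, k * x * k⁻¹ = (x : T) ^ 2 → k * (x : T) ^ 2 * k⁻¹ = x := fun e => by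
    rw [← conj_pow, e, ← pow_mul, show 2 * 2 = 3 + 1 from rfl, pow_succ, hx, one_mul]
  have tr : ∀ {a b : T}, ((s : T)⁻¹ * h * s) * a * ((s : T)⁻¹ * h * s)⁻¹ = b →
      h * (s * a * (s : T)⁻¹) * h⁻¹ = s * b * (s : T)⁻¹ := fun e => by rw [← e]; group
  have fin : ∀ l : List ℕ, l.length = 4 → (∀ i < 4, h * g i * h⁻¹ = g (l.getD i 4)) →
      ∃ k : Co1, ∀ i, k * lt ee aa i * k⁻¹ = lt ee aa (l.getD i 4) := fun l hl hh => by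
    obtain ⟨k, hk⟩ := fam_norm ch h552 hgen (h := h) (σ := fun i => l.getD i 4) fun i => by
      by_cases hi : i < 4
      · exact hh i hi
      · obtain ⟨j, rfl⟩ : ∃ j, i = j + 4 := ⟨i - 4, by omega⟩
        rw [List.getD_eq_default _ _ (by omega)]
        show h * 1 * h⁻¹ = 1
        rw [mul_one, mul_inv_cancel]
    exact ⟨k, fun i => by rw [← hg, ← hg, hk]⟩
  rcases h1 with h1 | h1 <;> rcases h2 with h2 | h2
  · refine fam_cent ch h552 hgen fun i => mul_inv_eq_iff_eq_mul.1 ?_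
    match i with
    | 0 => exact h1
    | 1 => exact sq h1
    | 2 => exact tr h2
    | 3 => exact tr (sq h2)
    | _ + 4 =>
      show h * 1 * h⁻¹ = 1
      rw [mul_one, mul_inv_cancel]
  · obtain ⟨k, hk⟩ := fin [0, 1, 3, 2] rfl fun i hi => by
      match i, hi with
      | 0, _ => exact h1
      | 1, _ => exact sq h1
      | 2, _ => exact tr h2
      | 3, _ => exact tr (sq' h2)
    exact absurd (excl rep (σ := fun i => [0, 1, 3, 2].getD i 4) c1 c5 fun i _ => hk i) (by decide)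
  · obtain ⟨k, hk⟩ := fin [1, 0, 2, 3] rfl fun i hi => by
      match i, hi with
      | 0, _ => exact h1
      | 1, _ => exact sq' h1
      | 2, _ => exact tr h2
      | 3, _ => exact tr (sq h2)
    exact absurd (excl rep (σ := fun i => [1, 0, 2, 3].getD i 4) c1 c6 fun i _ => hk i) (by decide)
  · obtain ⟨k, hk⟩ := fin [1, 0, 3, 2] rfl fun i hi => by
      match i, hi with
      | 0, _ => exact h1
      | 1, _ => exact sq' h1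
      | 2, _ => exact tr h2
      | 3, _ => exact tr (sq' h2)
    exact absurd (excl rep (σ := fun i => [1, 0, 3, 2].getD i 4) c7 c8 fun i _ => hk i) (by decide)

theorem conj_three {T : Type*} [Group T] [Finite T] {x n : T} (hx : orderOf x = 3)
    (hn : n ∈ normalizer (zpowers x : Set T)) : n * x * n⁻¹ = x ∨ n * x * n⁻¹ = x ^ 2 := by
  classical
  have h1 : n * x * n⁻¹ ∈ zpowers x := (mem_normalizer_iff.1 hn x).1 (mem_zpowers x)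
  rw [mem_zpowers_iff_mem_range_orderOf, hx, Finset.mem_image] at h1
  obtain ⟨i, hi, e⟩ := h1
  have h2 := Finset.mem_range.1 hi
  interval_cases i
  · have h3 : x = 1 := by rw [show x = n⁻¹ * (n * x * n⁻¹) * n by group, ← e]; simp
    rw [h3, orderOf_one] at hx
    norm_num at hx
  · exact Or.inl (by rw [← e, pow_one])
  · exact Or.inr e.symm

theorem nonab {S : Type*} [Group S] [IsSimpleGroup S] (h : ¬ (Nat.card S).Prime) : ¬ ∀ a b : S, a * b = b * a :=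
  fun hc => by
    letI : CommGroup S := { ‹Group S› with mul_comm := hc }
    exact h IsSimpleGroup.prime_card

theorem noPair {T : Type*} [Group T] [Finite T] {x s z : T} (hx : orderOf x = 3) (hz : z * z = 1) (hz1 : z ≠ 1)
    (hxz : z * x = x * z) (hF : Spor.IsoFi24' (XX x))
    (hs : ∀ h ∈ normalizer (zpowers x : Set T), s⁻¹ * h * s ∈ normalizer (zpowers x : Set T) → h = 1 ∨ h = z) :
    NoPairIn (normalizer (zpowers x : Set T)) := by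
  intro A B hA h
  obtain ⟨h1, h2⟩ := small h hA hz hs
  obtain ⟨e⟩ := hF
  haveI := Cfsg.Agent.S1698.result.1
  have h3 : ∀ c : T, c ∈ zpowers x → c ^ 3 = 1 := by
    rintro _ ⟨i, rfl⟩
    show (x ^ i) ^ 3 = 1
    rw [← hx, ← zpow_natCast, ← zpow_mul, mul_comm, zpow_mul, zpow_natCast, pow_orderOf_eq_one, one_zpow]
  have hker : ∀ c : centralizer ({x} : Set T), (e.toMonoidHom.comp (QuotientGroup.mk' (Zx x))) c = 1 →
      (c : T) ^ 3 = 1 := fun c hc => by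
    have h4 : LThreeMB.mk x (mem_centralizer_singleton_iff.1 c.2) = 1 := (map_eq_one_iff e e.injective).1 hc
    obtain ⟨i, hi⟩ := (LThreeMB.mk_eq_one _).1 h4
    exact h3 c ⟨i, hi⟩
  obtain ⟨k, hk, h4⟩ := kernel h.le (C := centralizer ({x} : Set T)) (fun c hc => mem_normalizer_fintype (by
      rintro _ ⟨i, rfl⟩
      refine ⟨i, ?_⟩
      show x ^ i = c * x ^ i * c⁻¹
      rw [((show Commute c x from mem_centralizer_singleton_iff.1 hc).zpow_right i).eq, mul_inv_cancel_right]))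
    (mem_centralizer_singleton_iff.2 hxz) h1 h2
    (nonab (by rw [Cfsg.Agent.S1698.result.2]; norm_num)) (e.toMonoidHom.comp (QuotientGroup.mk' (Zx x)))
    (e.surjective.comp (QuotientGroup.mk'_surjective _)) (fun hc => hz1 (by
      have h5 : z ^ 3 = 1 := hker _ hc
      rwa [pow_succ, pow_two, hz, one_mul] at h5))
  have h5 := h4 1 (one_mem _)
  rw [one_mul, inv_one, mul_one] at h5
  have h6 := hker k hk
  rw [pow_succ, pow_two] at h6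
  exact h5.2 (eq_inv_of_mul_eq_one_right h6 ▸ B.inv_mem (h2 _ h5.1 _ h5.1 h5.2 h5.2))

/-- **Box `N3A`.** -/
theorem boxN3A (hK : AllKnown.{0}) : BoxN3A := by
  haveI := BpSpor.MBigModel.finite
  haveI : Fact (Nat.Prime 3) := ⟨Nat.prime_three⟩
  obtain ⟨a, ha⟩ := chart.pi_surj (pr g12)
  obtain ⟨s, hs⟩ := chart.pi_surj (pr sS)
  have h3 : BpSpor.MBigModel.pi a ^ 3 = 1 := by rw [ha, ← map_pow, cube, map_one]
  have hπ : BpSpor.MBigModel.pi (a ^ 4) = pr g12 := by rw [map_pow, pow_succ, h3, one_mul, ha]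
  have hx : (a ^ 4) ^ 3 = 1 := by
    rw [← pow_mul, mul_comm, pow_mul]
    exact Subtype.ext (pow_four chart ((chart.pi_eq_one (a ^ 3)).1 (by rw [map_pow, h3])))
  generalize a ^ 4 = x at hπ hx
  have ho : orderOf x = 3 := orderOf_eq_prime hx fun h => CTwelveFix.ne_one (by rw [h, map_one] at hπ; exact hπ.symm)
  have hfr : fr (BpSpor.MBigModel.pi x) = 2 ^ 12 := by rw [hπ]; exact fr_g12
  obtain ⟨hA, hF⟩ : T3A (x : MG) ∧ Spor.IsoFi24' (XX (x : MG)) := by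
    rcases tri_in ho with h | h | h
    · exact ⟨h.1, h.2.2⟩
    · rw [hfr] at h
      exact absurd h.2 (by norm_num)
    · rw [hfr] at h
      exact absurd h.2.1 (by norm_num)
  have hN := noPair (s := (s : MG)) hA.1 chart.large.z_sq chart.large.z_ne
    (mem_centralizer_singleton_iff.1 x.2).symm hF fun h h1 h2 =>
      rigid hK chart (c552 hK) (congrArg Subtype.val hx) hπ hs (conj_three hA.1 h1) (conj_three hA.1 h2)
  intro y hy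
  obtain ⟨c, rfl⟩ := hy.isConj hA
  refine hN.of_conj c fun n hn => mem_normalizer_fintype ?_
  rintro _ ⟨i, rfl⟩
  obtain ⟨j, hj⟩ : n * (c * x * c⁻¹) ^ i * n⁻¹ ∈ zpowers (c * x * c⁻¹) :=
    (mem_normalizer_iff.1 hn _).1 ⟨i, rfl⟩
  refine ⟨j, ?_⟩
  simp only [conj_zpow] at hj
  show (x : MG) ^ j = c⁻¹ * n * c * (x : MG) ^ i * (c⁻¹ * n * c)⁻¹
  calc (x : MG) ^ j = c⁻¹ * (c * (x : MG) ^ j * c⁻¹) * c := by group
    _ = _ := by rw [hj]; group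

end Cfsg.Agent.SP.Mon.Cert.N3A
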